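import Mathlib
import Groth.Prelude.Def_Found
import Groth.Agent.Lib.Helper83.FlatLocalDim
import Groth.Agent.Lib.Helper84.Cyc1
import Groth.Agent.S0564

/-!
# Regular local algebras over a field with separable residue field are geometrically regular

`R` a regular local `k`-algebra with residue field `κ`, `k'` a finite `k`-algebra with `κ ⊗ k'`
reduced. Then `R ⊗ k'` is a regular ring.
-/

set_option autoImplicit false
set_option linter.style.haveILetI false
universe u

open TensorProduct IsLocalRing

namespace Groth.Agent.Lib.Helper39.GeomRegDVR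

section LocLoc

/-- If `P ≤ M` are primes and `T_M` is regular then `T_P` is regular. -/
theorem isRegularLocalRing_atPrime_of_le (T : Type u) [CommRing T] (M P : Ideal T) [hM : M.IsPrime]
    [hP : P.IsPrime] (hPM : P ≤ M) [IsRegularLocalRing (Localization.AtPrime M)] :
    IsRegularLocalRing (Localization.AtPrime P) := by
  have hdisj : Disjoint (M.primeCompl : Set T) (P : Set T) := by
    rw [Set.disjoint_left]
    intro a ha haP
    exact ha (hPM haP)
  let P' : Ideal (Localization.AtPrime M) := P.map (algebraMap T (Localization.AtPrime M))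
  haveI hP' : P'.IsPrime :=
    IsLocalization.isPrime_of_isPrime_disjoint M.primeCompl (Localization.AtPrime M) P hP hdisj
  have hcomap : P'.comap (algebraMap T (Localization.AtPrime M)) = P :=
    IsLocalization.under_map_of_isPrime_disjoint M.primeCompl (Localization.AtPrime M) hP hdisj
  have h1 : IsRegularLocalRing (Localization.AtPrime P') := Groth.Agent.S0564.result _ P'
  have key : ∀ (Q : Ideal T) (hQ : Q.IsPrime),
      Q = P'.comap (algebraMap T (Localization.AtPrime M)) →
      IsRegularLocalRing (@Localization.AtPrime T _ Q hQ) := by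
    rintro Q hQ rfl
    exact IsRegularLocalRing.of_ringEquiv
      (IsLocalization.localizationLocalizationAtPrimeIsoLocalization M.primeCompl P').symm.toRingEquiv
  exact key P hP hcomap.symm

end LocLoc

section Main

variable (k : Type u) [Field k] (R : Type u) [CommRing R] [Algebra k R] [IsRegularLocalRing R]
  (k' : Type u) [CommRing k'] [Algebra k k'] [Module.Finite k k']

theorem maximalIdeal_eq_bot_of_artinian_reduced (Q : Type*) [CommRing Q] [IsArtinianRing Q]
    [IsReduced Q] [IsLocalRing Q] : maximalIdeal Q = ⊥ :=
  IsLocalRing.isField_iff_maximalIdeal_eq.mp (IsArtinianRing.isField_of_isReduced_of_isLocalRing Q)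

/-- The fibre `T / m_R T` of `T = R ⊗ k'` is `κ ⊗ k'`. -/
noncomputable def fibreEquiv :
    ((R ⊗[k] k') ⧸ (maximalIdeal R).map (algebraMap R (R ⊗[k] k'))) ≃+*
      ResidueField R ⊗[k] k' :=
  (Algebra.TensorProduct.quotIdealMapEquivQuotTensor (R ⊗[k] k') (maximalIdeal R)).toRingEquiv.trans
    (Algebra.TensorProduct.cancelBaseChange k R (ResidueField R) (ResidueField R)
      k').toRingEquiv

theorem isRegularRing_tensor_left (hred : IsReduced (ResidueField R ⊗[k] k')) :
    IsRegularRing (R ⊗[k] k') := by
  haveI : IsNoetherianRing (R ⊗[k] k') := IsNoetherianRing.of_finite R (R ⊗[k] k')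
  haveI hredQ : IsReduced ((R ⊗[k] k') ⧸ (maximalIdeal R).map (algebraMap R (R ⊗[k] k'))) :=
    isReduced_of_injective (fibreEquiv k R k') (fibreEquiv k R k').injective
  haveI hartκ : IsArtinianRing (ResidueField R ⊗[k] k') :=
    IsArtinianRing.of_finite (ResidueField R) _
  haveI hartQ : IsArtinianRing ((R ⊗[k] k') ⧸ (maximalIdeal R).map (algebraMap R (R ⊗[k] k'))) :=
    (fibreEquiv k R k').symm.surjective.isArtinianRing
  rw [isRegularRing_iff]
  intro P hP
  obtain ⟨M, hMmax, hPM⟩ := Ideal.exists_le_maximal P hP.ne_top
  haveI := hMmax.isPrime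
  -- `M` contains `m_R T`
  have hMc : M.comap (algebraMap R (R ⊗[k] k')) = maximalIdeal R := by
    haveI : Algebra.IsIntegral R (R ⊗[k] k') := Algebra.IsIntegral.of_finite R _
    exact IsLocalRing.eq_maximalIdeal (Ideal.isMaximal_comap_of_isIntegral_of_isMaximal M)
  have hIM : (maximalIdeal R).map (algebraMap R (R ⊗[k] k')) ≤ M := by
    rw [Ideal.map_le_iff_le_comap, hMc]
  -- key: every element of `M` is killed into `I` by some `s ∉ M`
  have hkey : ∀ a ∈ M, ∃ s ∉ M, s * a ∈ (maximalIdeal R).map (algebraMap R (R ⊗[k] k')) := by
    intro a ha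
    set I := (maximalIdeal R).map (algebraMap R (R ⊗[k] k')) with hI
    let Mbar : Ideal ((R ⊗[k] k') ⧸ I) := M.map (Ideal.Quotient.mk I)
    haveI hMbar : Mbar.IsPrime :=
      Ideal.map_isPrime_of_surjective Ideal.Quotient.mk_surjective (by rwa [Ideal.mk_ker])
    have hcomapbar : Mbar.comap (Ideal.Quotient.mk I) = M := by
      show (M.map (Ideal.Quotient.mk I)).comap (Ideal.Quotient.mk I) = M
      rw [Ideal.comap_map_of_surjective _ Ideal.Quotient.mk_surjective,
        ← RingHom.ker_eq_comap_bot, Ideal.mk_ker]
      exact sup_eq_left.mpr hIM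
    haveI : IsArtinianRing (Localization.AtPrime Mbar) :=
      IsArtinianRing.localization_artinian Mbar.primeCompl _
    have h0 : algebraMap _ (Localization.AtPrime Mbar) (Ideal.Quotient.mk I a) = 0 := by
      have hmem : algebraMap _ (Localization.AtPrime Mbar) (Ideal.Quotient.mk I a) ∈
          maximalIdeal (Localization.AtPrime Mbar) := by
        rw [IsLocalization.AtPrime.to_map_mem_maximal_iff _ Mbar]
        exact Ideal.mem_map_of_mem _ ha
      have hbot : maximalIdeal (Localization.AtPrime Mbar) = ⊥ :=
        maximalIdeal_eq_bot_of_artinian_reduced (Localization.AtPrime Mbar)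
      rw [hbot] at hmem
      exact hmem
    rw [IsLocalization.map_eq_zero_iff Mbar.primeCompl] at h0
    obtain ⟨⟨sbar, hsbar⟩, hs0⟩ := h0
    obtain ⟨s, rfl⟩ := Ideal.Quotient.mk_surjective sbar
    refine ⟨s, ?_, ?_⟩
    · intro hsM
      exact hsbar (Ideal.mem_map_of_mem _ hsM)
    · have : Ideal.Quotient.mk I (s * a) = 0 := by rw [map_mul]; exact hs0
      exact Ideal.Quotient.eq_zero_iff_mem.mp this
  -- `m_R T_M = M T_M`
  have hmap : (maximalIdeal R).map (algebraMap R (Localization.AtPrime M)) =
      maximalIdeal (Localization.AtPrime M) := by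
    rw [IsScalarTower.algebraMap_eq R (R ⊗[k] k') (Localization.AtPrime M), ← Ideal.map_map]
    apply le_antisymm
    · rw [← Localization.AtPrime.map_eq_maximalIdeal]
      exact Ideal.map_mono hIM
    · rw [← Localization.AtPrime.map_eq_maximalIdeal, Ideal.map_le_iff_le_comap]
      intro a ha
      obtain ⟨s, hs, hsa⟩ := hkey a ha
      rw [Ideal.mem_comap]
      have hu : IsUnit (algebraMap (R ⊗[k] k') (Localization.AtPrime M) s) :=
        IsLocalization.map_units (Localization.AtPrime M) (⟨s, hs⟩ : M.primeCompl)
      have h2 : algebraMap (R ⊗[k] k') (Localization.AtPrime M) (s * a) ∈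
          ((maximalIdeal R).map (algebraMap R (R ⊗[k] k'))).map
            (algebraMap (R ⊗[k] k') (Localization.AtPrime M)) := Ideal.mem_map_of_mem _ hsa
      rw [map_mul] at h2
      exact (Ideal.unit_mul_mem_iff_mem _ hu).mp h2
  haveI : Module.Flat R (Localization.AtPrime M) := Module.Flat.trans R (R ⊗[k] k') _
  haveI : IsRegularLocalRing (Localization.AtPrime M) :=
    (Groth.Agent.Lib.Helper83.isRegularLocalRing_iff_of_flat_of_map_maximalIdeal hmap).mp
      inferInstance
  exact isRegularLocalRing_atPrime_of_le _ M P hPM

theorem isRegularRing_tensor_right (hred : IsReduced (ResidueField R ⊗[k] k')) :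
    IsRegularRing (k' ⊗[k] R) :=
  haveI := isRegularRing_tensor_left k R k' hred
  IsRegularRing.of_ringEquiv (Algebra.TensorProduct.comm k R k').toRingEquiv

end Main

section Geom

variable (k : Type u) [Field k] (R : Type u) [CommRing R] [Algebra k R] [IsRegularLocalRing R]

/-- A regular local `k`-algebra with separable residue field is geometrically regular. -/
theorem isGeometricallyRegular
    (hsep : ∀ (K : Type u) [Field K] [Algebra k K], IsReduced (K ⊗[k] ResidueField R)) :
    CAlg.IsGeometricallyRegular k R := by
  intro k' _ _ hfin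
  haveI := hfin
  apply isRegularRing_tensor_right k R k'
  haveI := hsep k'
  exact isReduced_of_injective (Algebra.TensorProduct.comm k (ResidueField R) k').toAlgHom
    (Algebra.TensorProduct.comm k (ResidueField R) k').injective

/-- A regular local `k`-algebra with separable residue field is geometrically reduced. -/
theorem isGeometricallyReduced
    (hsep : ∀ (K : Type u) [Field K] [Algebra k K], IsReduced (K ⊗[k] ResidueField R)) :
    Algebra.IsGeometricallyReduced k R := by
  rw [Algebra.isGeometricallyReduced_field_iff]
  haveI hbar := hsep (AlgebraicClosure k)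
  have hmain : IsReduced (R ⊗[k] AlgebraicClosure k) := by
    apply IsReduced.tensorProduct_of_flat_of_forall_fg
    intro B hB
    haveI : Algebra.IsIntegral k B := by
      have : Algebra.IsAlgebraic k B :=
        Algebra.IsAlgebraic.of_injective B.val Subtype.val_injective
      exact Algebra.IsAlgebraic.isIntegral
    haveI : Algebra.FiniteType k B := (Subalgebra.fg_iff_finiteType B).mp hB
    haveI : Module.Finite k B := Algebra.IsIntegral.finite
    haveI : IsRegularRing (R ⊗[k] B) := by
      apply isRegularRing_tensor_left k R B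
      have hinj : Function.Injective
          (Algebra.TensorProduct.map (AlgHom.id k (ResidueField R)) B.val) :=
        Module.Flat.lTensor_preserves_injective_linearMap (M := ResidueField R) B.val.toLinearMap
          Subtype.val_injective
      haveI : IsReduced (ResidueField R ⊗[k] AlgebraicClosure k) :=
        isReduced_of_injective (Algebra.TensorProduct.comm k (ResidueField R) _).toAlgHom
          (Algebra.TensorProduct.comm k (ResidueField R) _).injective
      exact isReduced_of_injective _ hinj
    exact Groth.Agent.Lib.Helper84.Cyc.isReduced_of_isRegularRing _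
  exact isReduced_of_injective (Algebra.TensorProduct.comm k (AlgebraicClosure k) R).toAlgHom
    (Algebra.TensorProduct.comm k (AlgebraicClosure k) R).injective

end Geom

end Groth.Agent.Lib.Helper39.GeomRegDVR

namespace Groth.Agent.Lib.Helper39.GeomRegDVR

section Kappa

variable (k : Type u) [Field k] (R : Type u) [CommRing R] [Algebra k R] [IsLocalRing R]
  (κ : Type u) [Field κ] [Algebra k κ] (π : R →ₐ[k] κ)

/-- If `π : R → κ` kills the maximal ideal, then `K ⊗ κ(R)` embeds into `K ⊗ κ`. -/
theorem isReduced_tensor_residueField (hπ : ∀ a ∈ maximalIdeal R, π a = 0)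
    (K : Type u) [Field K] [Algebra k K] (h : IsReduced (K ⊗[k] κ)) :
    IsReduced (K ⊗[k] ResidueField R) := by
  let f : ResidueField R →ₐ[k] κ := Ideal.Quotient.liftₐ (maximalIdeal R) π hπ
  have hinj : Function.Injective f := f.toRingHom.injective
  have hinjT : Function.Injective (Algebra.TensorProduct.map (AlgHom.id k K) f) :=
    Module.Flat.lTensor_preserves_injective_linearMap (M := K) f.toLinearMap hinj
  exact isReduced_of_injective _ hinjT

end Kappa

end Groth.Agent.Lib.Helper39.GeomRegDVR
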