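import Mathlib
import Groth.Prelude.Def_Curv2
import Groth.Agent.Lib.Helper39.NormCurve
import Groth.Agent.Lib.Helper39.FieldN2
import Groth.Agent.Lib.Helper39.BranchFibE
import Groth.Agent.Lib.Helper87.CINormal

/-!
# Stalks of the normalization of an integral scheme at codimension one points
-/

set_option autoImplicit false
set_option linter.style.haveILetI false
set_option linter.unusedSectionVars false
universe u

open CategoryTheory AlgebraicGeometry

namespace Groth.Agent.Lib.Helper39.GeomRegDVR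

open Groth.Agent.Lib.Helper39

section Sch

variable (X : Scheme.{u}) [IsIntegral X]
  [QuasiCompact (X.fromSpecStalk (genericPoint X))]
  [QuasiSeparated (X.fromSpecStalk (genericPoint X))]

local notation "fξ" => X.fromSpecStalk (genericPoint X)

theorem hg_id : (fξ) = Spec.map (CommRingCat.ofHom (RingHom.id X.functionField)) ≫
    X.fromSpecStalk (genericPoint X) := by
  have : CommRingCat.ofHom (RingHom.id X.functionField) = 𝟙 _ := rfl
  rw [this, Spec.map_id, Category.id_comp]

theorem isFinite_fromNormalization_of_lft {k : Type u} [Field k]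
    (f : X ⟶ Spec (CommRingCat.of k)) [LocallyOfFiniteType f] :
    IsFinite (fξ).fromNormalization := by
  apply NormCurve.isFinite_fromNormalization_fromSpecStalk X
  intro U hU hne
  haveI : IsDomain Γ(X, U) := @IsIntegral.component_integral X _ U hne
  obtain ⟨ψ, hψ⟩ := NormCurve.exists_finiteType_sections f U hU
  letI := ψ.toAlgebra
  have hft : Algebra.FiniteType k Γ(X, U) := hψ
  exact FieldN2.isN2_of_finiteType_field k Γ(X, U)

theorem isLocallyNoetherian_normalization_of_lft {k : Type u} [Field k]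
    (f : X ⟶ Spec (CommRingCat.of k)) [LocallyOfFiniteType f] :
    IsLocallyNoetherian (fξ).normalization := by
  haveI := isFinite_fromNormalization_of_lft X f
  haveI : LocallyOfFiniteType ((fξ).fromNormalization ≫ f) := inferInstance
  exact LocallyOfFiniteType.isLocallyNoetherian ((fξ).fromNormalization ≫ f)

theorem injective_app (U : X.Opens) (hU : IsAffineOpen U) (hξ : genericPoint X ∈ U) :
    Function.Injective ((fξ).fromNormalization.app U).hom :=
  NormCurve.injective_app_fromNormalization X X.functionField (RingHom.id _) (fξ) (hg_id X) U hU hξ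

theorem isIntegrallyClosed_sections (U : X.Opens) (hU : IsAffineOpen U)
    (hξ : genericPoint X ∈ U) :
    IsIntegrallyClosed Γ((fξ).normalization, (fξ).fromNormalization ⁻¹ᵁ U) := by
  have : Nonempty U := ⟨⟨_, hξ⟩⟩
  letI algL := ((fξ).app U).hom.toAlgebra
  have hL := NormDimOne.isField_sections X U hξ
  have hfr := NormDimOne.isFractionRing_sections X U hU hξ
  letI := hL.toField
  haveI : IsIntegrallyClosed (integralClosure Γ(X, U)
      Γ(Spec (X.presheaf.stalk (genericPoint X)), (fξ) ⁻¹ᵁ U)) :=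
    integralClosure.isIntegrallyClosedOfFiniteExtension
      Γ(Spec (X.presheaf.stalk (genericPoint X)), (fξ) ⁻¹ᵁ U)
  exact IsIntegrallyClosed.of_equiv ((fξ).normalizationObjIso hU).commRingCatIsoToRingEquiv.symm

theorem isIntegrallyClosed_stalk (x' : (fξ).normalization) :
    IsIntegrallyClosed ((fξ).normalization.presheaf.stalk x') := by
  obtain ⟨_, ⟨U, hU, rfl⟩, hxU, -⟩ := X.isBasis_affineOpens.exists_subset_of_mem_open
    (Set.mem_univ ((fξ).fromNormalization x')) isOpen_univ
  have hξ : genericPoint X ∈ U :=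
    ((genericPoint_spec X).mem_open_set_iff U.isOpen).mpr ⟨_, trivial, hxU⟩
  have hW : IsAffineOpen ((fξ).fromNormalization ⁻¹ᵁ U) := hU.preimage _
  have hy : x' ∈ (fξ).fromNormalization ⁻¹ᵁ U := hxU
  have : Nonempty ((fξ).fromNormalization ⁻¹ᵁ U : (fξ).normalization.Opens) := ⟨⟨x', hy⟩⟩
  haveI := isIntegrallyClosed_sections X U hU hξ
  let _ := TopCat.Presheaf.algebra_section_stalk (fξ).normalization.presheaf
    (⟨x', hy⟩ : ((fξ).fromNormalization ⁻¹ᵁ U : (fξ).normalization.Opens))
  have hloc := hW.isLocalization_stalk ⟨x', hy⟩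
  exact isIntegrallyClosed_of_isLocalization _ (hW.primeIdealOf ⟨x', hy⟩).asIdeal.primeCompl
    (Ideal.primeCompl_le_nonZeroDivisors _)

theorem isRegularLocalRing_stalk [IsLocallyNoetherian (fξ).normalization]
    (x' : (fξ).normalization)
    (hdim : ringKrullDim (X.presheaf.stalk ((fξ).fromNormalization x')) = 1) :
    IsRegularLocalRing ((fξ).normalization.presheaf.stalk x') := by
  haveI := isIntegrallyClosed_stalk X x'
  have h1 := NormCurve.ringKrullDim_stalk_normalization X X.functionField (RingHom.id _) (fξ)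
    (hg_id X) x' hdim
  exact Groth.Agent.Lib.Helper87.CINormal.isRegularLocalRing_of_normal_of_dim_le_one _ (le_of_eq h1)

theorem injective_stalkMap (x' : (fξ).normalization) :
    Function.Injective ((fξ).fromNormalization.stalkMap x').hom := by
  obtain ⟨_, ⟨U, hU, rfl⟩, hxU, -⟩ := X.isBasis_affineOpens.exists_subset_of_mem_open
    (Set.mem_univ ((fξ).fromNormalization x')) isOpen_univ
  have hξ : genericPoint X ∈ U :=
    ((genericPoint_spec X).mem_open_set_iff U.isOpen).mpr ⟨_, trivial, hxU⟩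
  have hy : x' ∈ (fξ).fromNormalization ⁻¹ᵁ U := hxU
  let _ := TopCat.Presheaf.algebra_section_stalk X.presheaf
    (⟨(fξ).fromNormalization x', hxU⟩ : U)
  have hloc := hU.isLocalization_stalk ⟨(fξ).fromNormalization x', hxU⟩
  rw [injective_iff_map_eq_zero]
  intro a ha
  obtain ⟨⟨a₀, s⟩, has⟩ := IsLocalization.surj
    (hU.primeIdealOf ⟨(fξ).fromNormalization x', hxU⟩).asIdeal.primeCompl a
  have has' : a * (X.presheaf.germ U _ hxU).hom (s : Γ(X, U)) = (X.presheaf.germ U _ hxU).hom a₀ :=
    has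
  have h1 : ((fξ).fromNormalization.stalkMap x').hom ((X.presheaf.germ U _ hxU).hom a₀) = 0 := by
    rw [← has', map_mul, ha, zero_mul]
  have h2 : ((fξ).fromNormalization.stalkMap x').hom ((X.presheaf.germ U _ hxU).hom a₀) =
      ((fξ).normalization.presheaf.germ ((fξ).fromNormalization ⁻¹ᵁ U) x' hy).hom
        (((fξ).fromNormalization.app U).hom a₀) :=
    Scheme.Hom.germ_stalkMap_apply (fξ).fromNormalization U x' hxU a₀
  rw [h2] at h1
  have h3 : ((fξ).fromNormalization.app U).hom a₀ = 0 := by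
    apply germ_injective_of_isIntegral (fξ).normalization x' hy
    rw [map_zero]
    exact h1
  have h4 : a₀ = 0 := by
    apply injective_app X U hU hξ
    rw [h3, map_zero]
  rw [h4, map_zero] at has'
  have hu : IsUnit ((X.presheaf.germ U _ hxU).hom (s : Γ(X, U))) :=
    IsLocalization.map_units (X.presheaf.stalk ((fξ).fromNormalization x')) s
  exact (hu.mul_left_eq_zero).mp has'

theorem exists_point_over (x : X) : ∃ x' : (fξ).normalization, (fξ).fromNormalization x' = x := by
  obtain ⟨_, ⟨U, hU, rfl⟩, hxU, -⟩ := X.isBasis_affineOpens.exists_subset_of_mem_open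
    (Set.mem_univ x) isOpen_univ
  have hξ : genericPoint X ∈ U :=
    ((genericPoint_spec X).mem_open_set_iff U.isOpen).mpr ⟨_, trivial, hxU⟩
  obtain ⟨E, -⟩ := BranchFib.fibre_equiv X U hU x hxU
  letI := ((fξ).fromNormalization.app U).hom.toAlgebra
  haveI hint : Algebra.IsIntegral Γ(X, U) Γ((fξ).normalization, (fξ).fromNormalization ⁻¹ᵁ U) :=
    ⟨IsIntegralHom.isIntegral_app (fξ).fromNormalization U hU⟩
  obtain ⟨Q, -, hQ, hQc⟩ := Ideal.exists_ideal_over_prime_of_isIntegral
    (hU.primeIdealOf ⟨x, hxU⟩).asIdeal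
    (⊥ : Ideal Γ((fξ).normalization, (fξ).fromNormalization ⁻¹ᵁ U)) (by
      intro a ha
      have h0 : algebraMap Γ(X, U) Γ((fξ).normalization, (fξ).fromNormalization ⁻¹ᵁ U) a = 0 := ha
      have : a = 0 := injective_app X U hU hξ (by rw [map_zero]; exact h0)
      rw [this]
      exact Ideal.zero_mem _)
  exact ⟨(E.symm ⟨⟨Q, hQ⟩, hQc⟩).1, (E.symm ⟨⟨Q, hQ⟩, hQc⟩).2⟩

end Sch

section KAlg

variable {k : Type u} [Field k] {X Y : Scheme.{u}} [X.Over (Spec (CommRingCat.of k))]

theorem stalkMap_comp (ν : Y ⟶ X) (y : Y) (c : k) :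
    letI : Y.Over (Spec (CommRingCat.of k)) := ⟨ν ≫ (X ↘ Spec (CommRingCat.of k))⟩
    Curv2.stalkMap k Y y c = (ν.stalkMap y).hom (Curv2.stalkMap k X (ν y) c) := by
  letI : Y.Over (Spec (CommRingCat.of k)) := ⟨ν ≫ (X ↘ Spec (CommRingCat.of k))⟩
  have h1 : Coh.toGlobal (Y ↘ Spec (CommRingCat.of k)) c =
      (ν.appTop).hom (Coh.toGlobal (X ↘ Spec (CommRingCat.of k)) c) := by
    unfold Coh.toGlobal
    show ((ν ≫ (X ↘ Spec (CommRingCat.of k))).appTop).hom _ = _
    rw [Scheme.Hom.comp_appTop]
    rfl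
  show (Y.presheaf.germ ⊤ y trivial).hom (Coh.toGlobal (Y ↘ Spec (CommRingCat.of k)) c) =
    (ν.stalkMap y).hom ((X.presheaf.germ ⊤ (ν y) trivial).hom
      (Coh.toGlobal (X ↘ Spec (CommRingCat.of k)) c))
  rw [h1]
  exact (Scheme.Hom.germ_stalkMap_apply ν ⊤ y trivial _).symm

end KAlg

end Groth.Agent.Lib.Helper39.GeomRegDVR
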